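import Groth.Agent.EtTorsPoint.Field
import Groth.Agent.CmpSite.Shift
import Groth.Agent.S0124
import Mathlib

/-!
# Direct images from points have torsion higher direct images and torsion cohomology
-/

set_option autoImplicit false
set_option backward.isDefEq.respectTransparency false
set_option backward.isDefEq.respectTransparency.types false
set_option linter.auxLemma false
set_option linter.style.haveILetI false
set_option linter.unusedSectionVars false

universe u

open CategoryTheory CategoryTheory.Limits CategoryTheory.Abelian AlgebraicGeometry Opposite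

noncomputable section

namespace Groth.Agent.EtTorsPoint

attribute [local instance 100000] EtCoh.H._proof_1 EtMV.hext
attribute [local instance 200000] EtMV.hextAb

variable {X : Scheme.{u}}

theorem isTorsion_of_iso {F G : EtCoh.Ab X} (e : F ≅ G) (h : EtCoh.IsTorsion G) : EtCoh.IsTorsion F := by
  intro U s x
  obtain ⟨V, g, hv, ho⟩ := h U (e.hom.hom.app (op U) s) x
  refine ⟨V, g, hv, ?_⟩
  have hb : F.obj.map g.op s = e.inv.hom.app (op V) (G.obj.map g.op (e.hom.hom.app (op U) s)) := by
    rw [← NatTrans.naturality_apply e.hom.hom g.op s]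
    exact (congrArg (fun z => (z.hom.app (op V)).hom (F.obj.map g.op s)) e.hom_inv_id).symm
  rw [hb]
  exact AddMonoidHom.isOfFinAddOrder (e.inv.hom.app (op V)).hom ho

theorem isTorsion_cokernel {A B : EtCoh.Ab X} (u : A ⟶ B)
    (h : ∀ (U : X.Etale) (t : EtCoh.sect B U) (x : U.left), ∃ (V : X.Etale) (g : V ⟶ U) (n : ℕ),
      (∃ v : V.left, g.left v = x) ∧ 0 < n ∧ ∃ a, u.hom.app (op V) a = n • B.obj.map g.op t) :
    EtCoh.IsTorsion (cokernel u) := by
  intro U s x
  obtain ⟨U', g', x', t, hx', ht⟩ := EtFLC.exists_lift_of_epi (cokernel.π u) s x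
  obtain ⟨V, g, n, ⟨v, hv⟩, hn, a, ha⟩ := h U' t x'
  refine ⟨V, g ≫ g', ⟨v, by rw [EtFLC.comp_left_apply, hv, hx']⟩, isOfFinAddOrder_iff_nsmul_eq_zero.2 ⟨n, hn, ?_⟩⟩
  have h1 : (cokernel u).obj.map (g ≫ g').op s = (cokernel.π u).hom.app (op V) (B.obj.map g.op t) := by
    rw [op_comp, Functor.map_comp, ConcreteCategory.comp_apply, NatTrans.naturality_apply]
    exact congrArg ((cokernel u).obj.map g.op) ht.symm
  rw [h1, ← map_nsmul, ← ha]
  exact ConcreteCategory.congr_hom (congrArg (fun z => z.hom.app (op V)) (cokernel.condition u)) a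

theorem isOfFinAddOrder_of_addEquiv {A B : Type*} [AddCommGroup A] [AddCommGroup B] (e : A ≃+ B)
    (h : ∀ b : B, IsOfFinAddOrder b) (a : A) : IsOfFinAddOrder a := by
  rw [← e.symm_apply_apply a]
  exact AddMonoidHom.isOfFinAddOrder e.symm.toAddMonoidHom (h _)

variable [CompactSpace X] [QuasiSeparatedSpace X] {k : Type u} [Field k] (i : Spec (CommRingCat.of k) ⟶ X)

theorem preservesFiniteLimits_push : PreservesFiniteLimits (EtCoh.push i) :=
  haveI : (EtCoh.push i).IsRightAdjoint := (EtCoh.pullPushAdj i).isRightAdjoint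
  inferInstance

/-- **the higher direct images are torsion** -/
theorem isTorsion_Rpush : ∀ (q : ℕ) (F : EtCoh.Ab (Spec (CommRingCat.of k))),
    EtCoh.IsTorsion ((EtCoh.Rpush i (q + 1)).obj F) := by
  haveI := preservesFiniteLimits_push i
  intro q
  induction q with
  | zero =>
    intro F
    have hS := EtMV.injSeq_shortExact F
    haveI : Injective (EtMV.injSeq F).X₂ := inferInstanceAs (Injective (Injective.under F))
    obtain ⟨e⟩ := CmpSite.rightDerived_one (EtCoh.push i) hS
    refine isTorsion_of_iso e (isTorsion_cokernel _ fun U t x => ?_)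
    obtain ⟨O, hO, hxO, -⟩ := exists_isAffineOpen_mem_and_subset (X := U.left) (x := x) (U := ⊤) trivial
    haveI : Etale U.hom := U.prop
    let V : X.Etale := Scheme.Etale.mk (O.ι ≫ U.hom)
    let g : V ⟶ U := MorphismProperty.Over.homMk O.ι rfl
    haveI : IsAffine V.left := hO
    haveI : QuasiCompact V.hom := by
      haveI : QuasiSeparated (terminal.from X) := (quasiSeparatedSpace_iff_quasiSeparated X).1 inferInstance
      haveI : QuasiCompact (terminal.from V.left) :=
        HasAffineProperty.iff_of_isAffine.2 (inferInstance : CompactSpace (V.left : Scheme.{u}))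
      haveI : QuasiCompact (V.hom ≫ terminal.from X) := by
        rw [show V.hom ≫ terminal.from X = terminal.from V.left from Subsingleton.elim _ _]; infer_instance
      exact QuasiCompact.of_comp V.hom (terminal.from X)
    haveI : CompactSpace ((EtCoh.bc i).obj V).left :=
      QuasiCompact.compactSpace_of_compactSpace (pullback.snd V.hom i)
    obtain ⟨n, hn, a, ha⟩ := exists_nsmul_lift hS ((EtCoh.bc i).obj V)
      (((EtCoh.push i).obj (EtMV.injSeq F).X₃).obj.map g.op t)
    exact ⟨V, g, n, ⟨⟨x, hxO⟩, rfl⟩, hn, a, ha⟩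
  | succ q ih =>
    intro F
    have hS := EtMV.injSeq_shortExact F
    haveI : Injective (EtMV.injSeq F).X₂ := inferInstanceAs (Injective (Injective.under F))
    obtain ⟨e⟩ := CmpSite.rightDerived_shift (EtCoh.push i) hS q
    exact isTorsion_of_iso e (ih _)

/-- **cohomology of direct images from points is torsion in positive degrees** -/
theorem isOfFinAddOrder_H_push : ∀ (q : ℕ) (F : EtCoh.Ab (Spec (CommRingCat.of k)))
    (y : EtCoh.H X ((EtCoh.push i).obj F) (q + 1)), IsOfFinAddOrder y := by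
  classical
  haveI := preservesFiniteLimits_push i
  haveI := EtPullExact.pull_preservesFiniteLimits i
  intro q
  induction q with
  | zero =>
    intro F y
    have hS := EtMV.injSeq_shortExact F
    haveI : Injective (EtMV.injSeq F).X₂ := inferInstanceAs (Injective (Injective.under F))
    haveI : Injective ((EtCoh.push i).obj (EtMV.injSeq F).X₂) := Injective.injective_of_adjoint (EtCoh.pullPushAdj i) _
    haveI := hS.mono_f
    let pf := (EtCoh.push i).map (EtMV.injSeq F).f
    let pg := (EtCoh.push i).map (EtMV.injSeq F).g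
    have hw : pf ≫ pg = 0 := by rw [← Functor.map_comp, (EtMV.injSeq F).zero, Functor.map_zero]
    let v := cokernel.desc pf pg hw
    haveI : Mono v := (ShortComplex.exact_iff_mono_cokernel_desc (ShortComplex.mk pf pg hw)).1
      (hS.exact.map_of_mono_of_preservesKernel (EtCoh.push i) hS.mono_f inferInstance)
    haveI : Mono pf := inferInstance
    have hS₁ : (ShortComplex.mk pf (cokernel.π pf) (cokernel.condition pf)).ShortExact :=
      { exact := ShortComplex.exact_of_g_is_cokernel _ (cokernelIsCokernel _) }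
    obtain ⟨x, hx⟩ := Ext.covariant_sequence_exact₁ (EtCoh.const X ℤ) hS₁ y (Ext.eq_zero_of_injective _) (n₀ := 0) rfl
    obtain ⟨z, rfl⟩ := (Ext.mk₀_bijective _ _).2 x
    let c : EtCoh.const (Spec (CommRingCat.of k)) ℤ ⟶ (EtCoh.pull i).obj (EtCoh.const X ℤ) := (EtCore.pullConst i ℤ).inv
    haveI : IsIso c := (EtCore.pullConst i ℤ).isIso_inv
    let H : (EtCoh.const X ℤ ⟶ (EtCoh.push i).obj (EtMV.injSeq F).X₃) →
        (EtCoh.const (Spec (CommRingCat.of k)) ℤ ⟶ (EtMV.injSeq F).X₃) := fun a =>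
      c ≫ ((EtCoh.pullPushAdj i).homEquiv _ _).symm a
    let ζ := H (z ≫ v)
    obtain ⟨n, hn, hn0⟩ := isOfFinAddOrder_iff_nsmul_eq_zero.1
      (isOfFinAddOrder_H_field F 0 ((Ext.mk₀ ζ).comp hS.extClass (zero_add 1)))
    refine isOfFinAddOrder_iff_nsmul_eq_zero.2 ⟨n, hn, ?_⟩
    let A : (EtCoh.const (Spec (CommRingCat.of k)) ℤ ⟶ (EtMV.injSeq F).X₃) →+
        Ext (EtCoh.const (Spec (CommRingCat.of k)) ℤ) (EtMV.injSeq F).X₁ 1 :=
      AddMonoidHom.mk' (fun g => (Ext.mk₀ g).comp hS.extClass (zero_add 1)) fun g g' => by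
        rw [Ext.mk₀_add, Ext.add_comp]
    have h0 : (Ext.mk₀ (n • ζ)).comp hS.extClass (zero_add 1) = 0 := by
      show A (n • ζ) = 0
      rw [map_nsmul]
      exact hn0
    obtain ⟨x, hx'⟩ := Ext.covariant_sequence_exact₃ _ hS (Ext.mk₀ (n • ζ)) rfl h0
    obtain ⟨ξ, rfl⟩ := (Ext.mk₀_bijective _ _).2 x
    rw [Ext.mk₀_comp_mk₀] at hx'
    have hξ : ξ ≫ (EtMV.injSeq F).g = n • ζ := (Ext.mk₀_bijective _ _).1 hx'
    let ξ' : EtCoh.const X ℤ ⟶ (EtCoh.push i).obj (EtMV.injSeq F).X₂ :=
      (EtCoh.pullPushAdj i).homEquiv _ _ (inv c ≫ ξ)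
    let Ht : (EtCoh.const (Spec (CommRingCat.of k)) ℤ ⟶ (EtMV.injSeq F).X₃) →+
        (EtCoh.const X ℤ ⟶ (EtCoh.push i).obj (EtMV.injSeq F).X₃) :=
      AddMonoidHom.mk' (fun b => (EtCoh.pullPushAdj i).homEquiv _ _ (inv c ≫ b)) fun b b' => by
        rw [Preadditive.comp_add, Adjunction.homEquiv_unit, Adjunction.homEquiv_unit, Adjunction.homEquiv_unit,
          Functor.map_add, Preadditive.comp_add]
    have hHt : Ht ζ = z ≫ v := by
      show (EtCoh.pullPushAdj i).homEquiv _ _ (inv c ≫ c ≫ _) = _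
      rw [IsIso.inv_hom_id_assoc, Equiv.apply_symm_apply]
    have hz : n • z = ξ' ≫ cokernel.π pf := by
      rw [← cancel_mono v, Category.assoc, cokernel.π_desc, Preadditive.nsmul_comp, ← hHt, ← map_nsmul, ← hξ]
      show (EtCoh.pullPushAdj i).homEquiv _ _ (inv c ≫ ξ ≫ _) = _
      rw [← Category.assoc, Adjunction.homEquiv_naturality_right]
    let A' : (EtCoh.const X ℤ ⟶ cokernel pf) →+ Ext (EtCoh.const X ℤ) ((EtCoh.push i).obj F) 1 :=
      AddMonoidHom.mk' (fun g => (Ext.mk₀ g).comp hS₁.extClass (zero_add 1)) fun g g' => by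
        rw [Ext.mk₀_add, Ext.add_comp]
    rw [← hx]
    show n • A' z = 0
    rw [← map_nsmul, hz]
    show (Ext.mk₀ (ξ' ≫ cokernel.π pf)).comp hS₁.extClass (zero_add 1) = 0
    rw [← Ext.mk₀_comp_mk₀_assoc, hS₁.comp_extClass, Ext.comp_zero]
  | succ q ih =>
    intro F y
    have hS := EtMV.injSeq_shortExact F
    haveI : Injective (EtMV.injSeq F).X₂ := inferInstanceAs (Injective (Injective.under F))
    haveI : Injective ((EtCoh.push i).obj (EtMV.injSeq F).X₂) := Injective.injective_of_adjoint (EtCoh.pullPushAdj i) _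
    haveI := hS.mono_f
    let pf := (EtCoh.push i).map (EtMV.injSeq F).f
    let pg := (EtCoh.push i).map (EtMV.injSeq F).g
    have hw : pf ≫ pg = 0 := by rw [← Functor.map_comp, (EtMV.injSeq F).zero, Functor.map_zero]
    let v := cokernel.desc pf pg hw
    haveI : Mono v := (ShortComplex.exact_iff_mono_cokernel_desc (ShortComplex.mk pf pg hw)).1
      (hS.exact.map_of_mono_of_preservesKernel (EtCoh.push i) hS.mono_f inferInstance)
    haveI : Mono pf := inferInstance
    have hS₁ : (ShortComplex.mk pf (cokernel.π pf) (cokernel.condition pf)).ShortExact :=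
      { exact := ShortComplex.exact_of_g_is_cokernel _ (cokernelIsCokernel _) }
    have hS₂ : (ShortComplex.mk v (cokernel.π v) (cokernel.condition v)).ShortExact :=
      { exact := ShortComplex.exact_of_g_is_cokernel _ (cokernelIsCokernel _) }
    have hC : EtCoh.IsTorsion (cokernel v) := by
      obtain ⟨e⟩ := CmpSite.rightDerived_one (EtCoh.push i) hS
      exact isTorsion_of_iso (((cokernelEpiComp (cokernel.π pf) v).symm ≪≫
        cokernelIsoOfEq (cokernel.π_desc pf pg hw)) ≪≫ e.symm) (isTorsion_Rpush i 0 F)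
    obtain ⟨z, hz⟩ := Ext.covariant_sequence_exact₁ (EtCoh.const X ℤ) hS₁ y (Ext.eq_zero_of_injective _) (n₀ := q + 1) rfl
    let z' : EtCoh.H X ((EtCoh.push i).obj (EtMV.injSeq F).X₃) (q + 1) := Ext.comp z (Ext.mk₀ v) (add_zero (q + 1))
    obtain ⟨n, hn, hn0⟩ := isOfFinAddOrder_iff_nsmul_eq_zero.1 (ih _ z')
    let P : Ext (EtCoh.const X ℤ) (cokernel pf) (q + 1) →+
        Ext (EtCoh.const X ℤ) ((EtCoh.push i).obj (EtMV.injSeq F).X₃) (q + 1) :=
      (Ext.mk₀ v).postcomp _ (add_zero (q + 1))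
    have h0 : P (n • z) = 0 := (map_nsmul P n z).trans hn0
    obtain ⟨w, hw'⟩ := Ext.covariant_sequence_exact₁ (EtCoh.const X ℤ) hS₂ (n • z) h0 (n₀ := q) rfl
    obtain ⟨m, hm, hm0⟩ := isOfFinAddOrder_iff_nsmul_eq_zero.1 (S0124.result X (cokernel v) hC q w)
    refine isOfFinAddOrder_iff_nsmul_eq_zero.2 ⟨m * n, Nat.mul_pos hm hn, ?_⟩
    let D : Ext (EtCoh.const X ℤ) (cokernel pf) (q + 1) →+ Ext (EtCoh.const X ℤ) ((EtCoh.push i).obj F) (q + 1 + 1) :=
      hS₁.extClass.postcomp _ rfl
    let D₂ : Ext (EtCoh.const X ℤ) (cokernel v) q →+ Ext (EtCoh.const X ℤ) (cokernel pf) (q + 1) :=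
      hS₂.extClass.postcomp _ rfl
    rw [← hz]
    show (m * n) • D z = 0
    rw [← map_nsmul, mul_nsmul', ← hw']
    show D (m • D₂ w) = 0
    rw [← map_nsmul, hm0, map_zero, map_zero]

end Groth.Agent.EtTorsPoint
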