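import Groth.Agent.EtTorsPoint.Field
import Groth.Agent.EtMV.ConstUnit
import Groth.Agent.EtAcycX.Edge
import Groth.Agent.EtPBC.ConstKilled
import Mathlib

/-!
# First cohomology with torsion-free constant coefficients at points
-/

set_option autoImplicit false
set_option backward.isDefEq.respectTransparency false
set_option backward.isDefEq.respectTransparency.types false
set_option linter.auxLemma false
set_option linter.style.haveILetI false
set_option linter.unusedSectionVars false

universe u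

open CategoryTheory CategoryTheory.Limits CategoryTheory.Abelian AlgebraicGeometry Opposite

noncomputable section

namespace Groth.Agent.EtTorsPoint

attribute [local instance 100000] EtCoh.H._proof_1 EtMV.hext
attribute [local instance 200000] EtMV.hextAb

/-- homomorphisms out of the constant sheaf of integers on an integral scheme are constant -/
theorem exists_cst_hom {S : Scheme.{u}} [IsIntegral S] {N : Type} [AddCommGroup N]
    (φ : EtCoh.const S ℤ ⟶ EtCoh.const S N) :
    ∃ m : N, φ = (EtPBC.cstF S).map (AddCommGrpCat.ofHom (AddEquiv.ulift.symm.toAddMonoidHom.comp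
      ((zmultiplesHom N m).comp AddEquiv.ulift.toAddMonoidHom))) := by
  let T := EtCoh.top S
  let η : T.left := genericPoint S
  let m := EtMV.valAt (EtMV.κ φ) η
  refine ⟨m, (EtMV.κ_bijective _).1 ?_⟩
  have h1 : EtMV.κ φ = EtMV.cst T m := EtMV.ext_valAt fun η' h' => by
    rw [EtMV.valAt_cst, show η' = η from h']
  let a : AddCommGrpCat.of (ULift.{u + 1} ℤ) ⟶ AddCommGrpCat.of (ULift.{u + 1} N) :=
    AddCommGrpCat.ofHom (AddEquiv.ulift.symm.toAddMonoidHom.comp
      ((zmultiplesHom N m).comp AddEquiv.ulift.toAddMonoidHom))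
  rw [h1]
  have h2 := ConcreteCategory.congr_hom ((EtCore.constAdj S).unit.naturality a) (⟨1⟩ : ULift.{u + 1} ℤ)
  refine Eq.trans ?_ h2
  show _ = (EtCore.constAdj S).unit.app (AddCommGrpCat.of (ULift.{u + 1} N)) (ULift.up ((1 : ℤ) • m))
  rw [one_smul]
  exact (EtMV.constAdj_unit_apply S m).symm

variable {k : Type u} [Field k] (M : Type) [AddCommGroup M] [IsAddTorsionFree M]

/-- **no first cohomology for torsion free constant coefficients over a field** -/
theorem subsingleton_H1_const : Subsingleton (EtCoh.H (Spec (CommRingCat.of k))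
    (EtCoh.const (Spec (CommRingCat.of k)) M) 1) := by
  refine subsingleton_of_forall_eq 0 fun c => ?_
  obtain ⟨n, hn, hc⟩ := isOfFinAddOrder_iff_nsmul_eq_zero.1 (isOfFinAddOrder_H_field _ 0 c)
  let X := Spec (CommRingCat.of k)
  let P : AddSubgroup M := (n • AddMonoidHom.id M).range
  let a : AddCommGrpCat.of (ULift.{u + 1} M) ⟶ AddCommGrpCat.of (ULift.{u + 1} M) :=
    n • 𝟙 _
  let b : AddCommGrpCat.of (ULift.{u + 1} M) ⟶ AddCommGrpCat.of (ULift.{u + 1} (M ⧸ P)) :=
    AddCommGrpCat.ofHom (AddEquiv.ulift.symm.toAddMonoidHom.comp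
      ((QuotientAddGroup.mk' P).comp AddEquiv.ulift.toAddMonoidHom))
  have ha : ∀ x : ULift.{u + 1} M, (a x).down = n • x.down := fun x => by
    let ev : (AddCommGrpCat.of (ULift.{u + 1} M) ⟶ AddCommGrpCat.of (ULift.{u + 1} M)) →+ M :=
      AddMonoidHom.mk' (fun g => (g.hom x).down) fun _ _ => rfl
    exact map_nsmul ev n (𝟙 _)
  have hab : a ≫ b = 0 := AddCommGrpCat.hom_ext (AddMonoidHom.ext fun x => ULift.down_injective
    ((QuotientAddGroup.eq_zero_iff _).2 ⟨x.down, (ha x).symm⟩))
  have hS : (ShortComplex.mk a b hab).ShortExact :=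
    { exact := (ShortComplex.ab_exact_iff _).2 fun x hx => by
        obtain ⟨y, hy⟩ := (QuotientAddGroup.eq_zero_iff _).1 (congrArg ULift.down hx)
        exact ⟨⟨y⟩, ULift.down_injective ((ha _).trans hy)⟩
      mono_f := (AddCommGrpCat.mono_iff_injective _).2 fun x y h => ULift.down_injective
        (nsmul_right_injective hn.ne' (((ha x).symm.trans (congrArg ULift.down h)).trans (ha y)))
      epi_g := (AddCommGrpCat.epi_iff_surjective _).2 fun y => by
        obtain ⟨z, hz⟩ := QuotientAddGroup.mk'_surjective P y.down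
        exact ⟨⟨z⟩, ULift.down_injective hz⟩ }
  haveI : (EtPBC.cstF X).Additive := inferInstance
  have hS' := EtPBC.shortExact_map (EtPBC.cstF X) hS
  let C : EtCoh.Ab X := EtCoh.const X M
  have h0 : Ext.comp (c : Ext (EtCoh.const X ℤ) C 1) (Ext.mk₀ ((EtPBC.cstF X).map a)) (add_zero 1) = 0 := by
    rw [show (EtPBC.cstF X).map a = n • 𝟙 C from
      ((EtPBC.cstF X).map_nsmul).trans (congrArg (n • ·) ((EtPBC.cstF X).map_id _))]
    let A : (C ⟶ C) →+ Ext (EtCoh.const X ℤ) C 1 :=
      AddMonoidHom.mk' (fun g => Ext.comp c (Ext.mk₀ g) (add_zero 1)) fun g g' => by rw [Ext.mk₀_add, Ext.comp_add]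
    show A (n • 𝟙 C) = 0
    rw [map_nsmul]
    exact (congrArg (n • ·) (Ext.comp_mk₀_id c)).trans hc
  obtain ⟨z, hz⟩ := Ext.covariant_sequence_exact₁ (EtCoh.const X ℤ) hS' c h0 (n₀ := 0) rfl
  obtain ⟨φ, rfl⟩ := (Ext.mk₀_bijective _ _).2 z
  obtain ⟨m, hm⟩ := exists_cst_hom (N := M ⧸ P) φ
  obtain ⟨m', rfl⟩ := QuotientAddGroup.mk'_surjective P m
  let ψ : EtCoh.const X ℤ ⟶ C := (EtPBC.cstF X).map (AddCommGrpCat.ofHom (AddEquiv.ulift.symm.toAddMonoidHom.comp
      ((zmultiplesHom M m').comp AddEquiv.ulift.toAddMonoidHom)))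
  have hψ : φ = ψ ≫ (EtPBC.cstF X).map b := by
    rw [hm]
    refine Eq.trans (congrArg (EtPBC.cstF X).map ?_) ((EtPBC.cstF X).map_comp _ _)
    exact AddCommGrpCat.hom_ext (AddMonoidHom.ext fun x => ULift.down_injective
      (map_zsmul (QuotientAddGroup.mk' P) x.down m').symm)
  rw [← hz, hψ, ← Ext.mk₀_comp_mk₀, Ext.comp_assoc_of_second_deg_zero]
  exact (congrArg (fun t => Ext.comp (Ext.mk₀ ψ) t (zero_add 1)) hS'.comp_extClass).trans (Ext.comp_zero _ _ _ _ _)

/-- **vanishing for the direct image from a point** -/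
theorem subsingleton_H1_push_const {X : Scheme.{u}} (i : Spec (CommRingCat.of k) ⟶ X) :
    Subsingleton (EtCoh.H X ((EtCoh.push i).obj (EtCoh.const (Spec (CommRingCat.of k)) M)) 1) := by
  haveI := EtPullExact.pull_preservesFiniteLimits i
  haveI := subsingleton_H1_const (k := k) M
  exact (EtAcycX.HofPush_bounded i (EtCoh.const (Spec (CommRingCat.of k)) M) 0
    fun q hq => absurd hq (Nat.not_lt_zero q)).2.subsingleton

end Groth.Agent.EtTorsPoint
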