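import Groth.Agent.GalCohLib.RelTransfer
import Groth.Agent.EtMV.KillClass
import Groth.Agent.EtPullExact.Basic
import Groth.Agent.SpQS.FieldImm
import Groth.Agent.FpqcDescent.Sep
import Groth.Agent.EtIntegral.Push
import Mathlib

/-!
# Etale cohomology of fields is torsion in positive degrees
-/

set_option autoImplicit false
set_option backward.isDefEq.respectTransparency false
set_option backward.isDefEq.respectTransparency.types false
set_option linter.auxLemma false
set_option linter.style.haveILetI false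
set_option linter.unusedSectionVars false

universe u

open CategoryTheory CategoryTheory.Limits CategoryTheory.Abelian AlgebraicGeometry Opposite

noncomputable section

namespace Groth.Agent.EtTorsPoint

attribute [local instance 100000] EtCoh.H._proof_1 EtMV.hext
attribute [local instance 200000] EtMV.hextAb

variable {k : Type u} [Field k]

/-- nonempty etale schemes over a field receive a finite separable point -/
theorem exists_pt_hom (o : (Spec (CommRingCat.of k)).Etale) [Nonempty o.left] :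
    ∃ (K : Type u) (_ : Field K) (_ : Algebra k K) (_ : FiniteDimensional k K) (_ : Algebra.IsSeparable k K),
      Nonempty (GalCohLib.pt k K ⟶ o) := by
  obtain ⟨B, hB, hw, -⟩ := exists_isAffineOpen_mem_and_subset (X := o.left) (x := Classical.arbitrary _) (U := ⊤) trivial
  haveI : Etale o.hom := o.prop
  obtain ⟨φ, hφ⟩ := Spec.map_surjective (hB.fromSpec ≫ o.hom : Spec Γ(o.left, B) ⟶ Spec (CommRingCat.of k))
  have he : φ.hom.Etale := by
    rw [← HasRingHomProperty.Spec_iff (P := @Etale), hφ]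
    exact MorphismProperty.comp_mem @Etale _ o.hom inferInstance ‹_›
  letI : Algebra k Γ(o.left, B) := φ.hom.toAlgebra
  haveI : Algebra.Etale k Γ(o.left, B) := he
  haveI : Nonempty B.toScheme := ⟨⟨_, hw⟩⟩
  haveI : Module.Finite k Γ(o.left, B) := Algebra.FormallyUnramified.finite_of_free k Γ(o.left, B)
  haveI : Nontrivial Γ(o.left, B) := inferInstance
  obtain ⟨m, hm⟩ := Ideal.exists_maximal Γ(o.left, B)
  letI : Field (Γ(o.left, B) ⧸ m) := Ideal.Quotient.field m
  haveI : Algebra.IsSeparable k (Γ(o.left, B) ⧸ m) := Algebra.FormallyUnramified.isSeparable k _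
  refine ⟨Γ(o.left, B) ⧸ m, inferInstance, inferInstance, inferInstance, inferInstance,
    ⟨MorphismProperty.Over.homMk (Spec.map (CommRingCat.ofHom (Ideal.Quotient.mk m)) ≫ hB.fromSpec) ?_⟩⟩
  show (Spec.map (CommRingCat.ofHom (Ideal.Quotient.mk m)) ≫ hB.fromSpec) ≫ o.hom = Spec.map _
  rw [Category.assoc, ← hφ, ← Spec.map_comp]
  rfl

theorem isOfFinAddOrder_ext_top (F : EtCoh.Ab (Spec (CommRingCat.of k))) (n : ℕ)
    (c : Ext ((EtMV.P _).obj (EtCoh.top (Spec (CommRingCat.of k)))) F (n + 1)) : IsOfFinAddOrder c := by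
  obtain ⟨o, h, w, -, hc⟩ := EtMV.exists_kill n _ F c (default : ↥(Spec (CommRingCat.of k)))
  haveI : Nonempty o.left := ⟨w⟩
  obtain ⟨K, _, _, _, _, ⟨j⟩⟩ := exists_pt_hom o
  refine isOfFinAddOrder_iff_nsmul_eq_zero.2
    ⟨Module.finrank k K, Module.finrank_pos, GalCohLib.finrank_nsmul_eq_zero k K F (n + 1) c ?_⟩
  rw [EtMV.hom_top_ext (EtMV.toTop (GalCohLib.pt k K)) (j ≫ h), Functor.map_comp, ← Ext.mk₀_comp_mk₀_assoc, hc,
    Ext.comp_zero]

/-- **positive degree cohomology of a field is torsion** -/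
theorem isOfFinAddOrder_H_field (F : EtCoh.Ab (Spec (CommRingCat.of k))) (n : ℕ)
    (c : EtCoh.H (Spec (CommRingCat.of k)) F (n + 1)) : IsOfFinAddOrder c := by
  rw [← (EtMV.eX _ F (n + 1)).apply_symm_apply c]
  exact AddMonoidHom.isOfFinAddOrder (EtMV.eX _ F (n + 1)).toAddMonoidHom (isOfFinAddOrder_ext_top F n _)

/-- the classes over a point etale over a field are torsion -/
theorem isOfFinAddOrder_ext_point (o : (Spec (CommRingCat.of k)).Etale) [Subsingleton o.left] [Nonempty o.left]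
    (F : EtCoh.Ab (Spec (CommRingCat.of k))) (n : ℕ) (c : Ext ((EtMV.P _).obj o) F (n + 1)) :
    IsOfFinAddOrder c := by
  haveI : Etale o.hom := o.prop
  haveI : IsReduced o.left :=
    @SpQS.isReduced_of_etale_reduced o.left (Spec (CommRingCat.of k)) o.hom inferInstance inferInstance
  obtain ⟨B, hB, hw, -⟩ := exists_isAffineOpen_mem_and_subset (X := o.left) (x := Classical.arbitrary _) (U := ⊤) trivial
  have hBtop : B = ⊤ := top_le_iff.1 fun x _ => by rwa [Subsingleton.elim x (Classical.arbitrary _)]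
  haveI : IsAffine o.left := by
    subst hBtop
    haveI : IsAffine (⊤ : o.left.Opens).toScheme := hB
    exact IsAffine.of_isIso o.left.topIso.inv
  let A := Γ(o.left, ⊤)
  haveI : Subsingleton (PrimeSpectrum A) := (Scheme.homeoOfIso o.left.isoSpec).symm.injective.subsingleton
  haveI : Nontrivial A := by
    haveI : Nonempty (⊤ : o.left.Opens).toScheme := ⟨⟨Classical.arbitrary _, trivial⟩⟩
    infer_instance
  have hf : IsField A := by
    rw [Ring.isField_iff_maximal_bot]
    obtain ⟨m, hm⟩ := Ideal.exists_maximal A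
    have h : (⊥ : Ideal A) = m := by
      refine le_antisymm bot_le fun x hx => ?_
      have : x ∈ nilradical A := by
        rw [nilradical_eq_sInf, Ideal.mem_sInf]
        intro P hP
        rw [show P = m from congrArg PrimeSpectrum.asIdeal
          (Subsingleton.elim (α := PrimeSpectrum A) ⟨P, hP⟩ ⟨m, hm.isPrime⟩)]
        exact hx
      rwa [nilradical_eq_zero A] at this
    rwa [h]
  letI : Field A := hf.toField
  let e : Spec (CommRingCat.of A) ≅ o.left := o.left.isoSpec.symm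
  let h : Spec (CommRingCat.of A) ⟶ Spec (CommRingCat.of k) := e.hom ≫ o.hom
  haveI : Etale h := inferInstance
  haveI := EtPullExact.pull_preservesFiniteLimits h
  let θ : Scheme.Etale.mk h ⟶ o := MorphismProperty.Over.homMk e.hom rfl
  let θ' : o ⟶ Scheme.Etale.mk h := MorphismProperty.Over.homMk e.inv (e.inv_hom_id_assoc _)
  have hθ : θ' ≫ θ = 𝟙 o := MorphismProperty.Over.Hom.ext e.inv_hom_id
  let φ := EtMV.Φe h F (n + 1)
  let d := (Ext.mk₀ ((EtMV.P _).map θ)).comp c (zero_add (n + 1))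
  have hd : IsOfFinAddOrder d := by
    rw [← φ.symm_apply_apply d]
    exact AddMonoidHom.isOfFinAddOrder φ.symm.toAddMonoidHom (isOfFinAddOrder_H_field _ n _)
  obtain ⟨m, hm, hmd⟩ := isOfFinAddOrder_iff_nsmul_eq_zero.1 hd
  refine isOfFinAddOrder_iff_nsmul_eq_zero.2 ⟨m, hm, ?_⟩
  have hc : c = (Ext.mk₀ ((EtMV.P _).map θ')).comp d (zero_add (n + 1)) := by
    rw [Ext.mk₀_comp_mk₀_assoc, ← Functor.map_comp, hθ, CategoryTheory.Functor.map_id, Ext.mk₀_id_comp]
  let pre : Ext ((EtMV.P _).obj (Scheme.Etale.mk h)) F (n + 1) →+ Ext ((EtMV.P _).obj o) F (n + 1) :=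
    AddMonoidHom.mk' (fun x => (Ext.mk₀ ((EtMV.P _).map θ')).comp x (zero_add (n + 1))) fun x y => Ext.comp_add _ _ _ _
  rw [hc]
  show m • pre d = 0
  rw [← map_nsmul, hmd, map_zero]

variable {S : ShortComplex (EtCoh.Ab (Spec (CommRingCat.of k)))} (hS : S.ShortExact)

include hS in
/-- over a quasi-compact etale scheme over a field a multiple of every section lifts -/
theorem exists_nsmul_lift (o : (Spec (CommRingCat.of k)).Etale) [CompactSpace o.left] (t : EtCoh.sect S.X₃ o) :
    ∃ n : ℕ, 0 < n ∧ ∃ s : EtCoh.sect S.X₂ o, S.g.hom.app (op o) s = n • t := by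
  classical
  haveI : Etale o.hom := o.prop
  haveI : DiscreteTopology o.left := by
    haveI := FpqcDescent.locallyQuasiFinite_of_etale o.hom
    have h := Scheme.Hom.isDiscrete_preimage_singleton o.hom (default : ↥(Spec (CommRingCat.of k)))
    rw [show o.hom ⁻¹' {(default : ↥(Spec (CommRingCat.of k)))} = Set.univ from
      Set.eq_univ_of_forall fun x => @Subsingleton.elim ↥(Spec (CommRingCat.of k)) _ _ _] at h
    exact isDiscrete_univ_iff.1 h
  haveI : Finite o.left := finite_of_compact_of_discrete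
  haveI := Fintype.ofFinite o.left
  let B : o.left → o.left.Opens := fun v => ⟨{v}, isOpen_discrete _⟩
  let Z : o.left → (Spec (CommRingCat.of k)).Etale := fun v => Scheme.Etale.mk ((B v).ι ≫ o.hom)
  let π : ∀ v, Z v ⟶ o := fun v => MorphismProperty.Over.homMk (B v).ι rfl
  haveI : ∀ v, Mono (π v).left := fun v => inferInstanceAs (Mono (B v).ι)
  have hsub : ∀ v, Subsingleton (Z v).left := fun v => ⟨fun a b => Subtype.ext (a.2.trans b.2.symm)⟩
  have hne : ∀ v, Nonempty (Z v).left := fun v => ⟨⟨v, rfl⟩⟩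
  let τ : ∀ v, (EtMV.P _).obj (Z v) ⟶ S.X₃ := fun v => EtMV.σ.symm (S.X₃.obj.map (π v).op t)
  have hτ : ∀ v, IsOfFinAddOrder ((Ext.mk₀ (τ v)).comp hS.extClass (zero_add 1)) := fun v =>
    @isOfFinAddOrder_ext_point k _ (Z v) (hsub v) (hne v) S.X₁ 0 _
  choose m hm hmv using fun v => isOfFinAddOrder_iff_nsmul_eq_zero.1 (hτ v)
  refine ⟨∏ v, m v, Finset.prod_pos fun v _ => hm v, ?_⟩
  have hl : ∀ v, ∃ z : EtCoh.sect S.X₂ (Z v), S.g.hom.app (op (Z v)) z = S.X₃.obj.map (π v).op ((∏ v, m v) • t) := by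
    intro v
    obtain ⟨d, hd⟩ := Finset.dvd_prod_of_mem m (Finset.mem_univ v)
    have h0 : (Ext.mk₀ (d • m v • τ v)).comp hS.extClass (zero_add 1) = 0 := by
      let A : ((EtMV.P _).obj (Z v) ⟶ S.X₃) →+ Ext ((EtMV.P _).obj (Z v)) S.X₁ 1 :=
        AddMonoidHom.mk' (fun g => (Ext.mk₀ g).comp hS.extClass (zero_add 1)) fun g g' => by
          rw [Ext.mk₀_add, Ext.add_comp]
      show A (d • m v • τ v) = 0
      rw [map_nsmul, map_nsmul]
      exact (congrArg (d • ·) (hmv v)).trans (nsmul_zero _)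
    obtain ⟨x, hx⟩ := Ext.covariant_sequence_exact₃ _ hS (Ext.mk₀ (d • m v • τ v)) rfl h0
    obtain ⟨ξ, rfl⟩ := (Ext.mk₀_bijective _ _).2 x
    rw [Ext.mk₀_comp_mk₀] at hx
    have hx' := congrArg EtMV.σ ((Ext.mk₀_bijective _ _).1 hx)
    rw [EtMV.σ_comp] at hx'
    refine ⟨EtMV.σ ξ, hx'.trans ?_⟩
    let σh : ((EtMV.P _).obj (Z v) ⟶ S.X₃) →+ EtCoh.sect S.X₃ (Z v) := AddMonoidHom.mk' EtMV.σ EtMV.σ_add
    show σh (d • m v • τ v) = _
    rw [map_nsmul, map_nsmul, map_nsmul, hd, mul_nsmul', show σh (τ v) = S.X₃.obj.map (π v).op t from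
      Equiv.apply_symm_apply _ _, smul_comm]
  choose z hz using hl
  have hc : ∀ c, ∃ v, c ∈ Set.range (π v).left := fun c => ⟨c, ⟨c, rfl⟩, rfl⟩
  obtain ⟨s, hs⟩ := Groth.Agent.EtIntegral.exists_amalg_disjoint S.X₂ Z π
    (fun i j hij c d hcd => hij (c.2.symm.trans (hcd.trans d.2))) hc z
  refine ⟨s, Groth.Agent.EtIntegral.sect_ext S.X₃ Z π hc _ _ fun v => ?_⟩
  rw [← NatTrans.naturality_apply, hs, hz]

end Groth.Agent.EtTorsPoint
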