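import Groth.Agent.EtTorsPoint.Push
import Groth.Agent.EtPBC.CurveGm
import Mathlib

/-!
# Cohomology of the units on reduced one-dimensional noetherian schemes is torsion above degree one
-/

set_option autoImplicit false
set_option backward.isDefEq.respectTransparency false
set_option backward.isDefEq.respectTransparency.types false
set_option linter.auxLemma false
set_option linter.style.haveILetI false
set_option linter.unusedSectionVars false

universe u

open CategoryTheory CategoryTheory.Limits CategoryTheory.Abelian AlgebraicGeometry Opposite TopologicalSpace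
open Groth.Agent.EtPBC

noncomputable section

namespace Groth.Agent.EtTorsPoint

attribute [local instance 100000] EtCoh.H._proof_1 EtMV.hext
attribute [local instance 200000] EtMV.hextAb

variable {X : Scheme.{u}}

theorem isOfFinAddOrder_middle {S : ShortComplex (EtCoh.Ab X)} (hS : S.ShortExact) (q : ℕ)
    (h₁ : ∀ a : EtCoh.H X S.X₁ q, IsOfFinAddOrder a) (h₃ : ∀ a : EtCoh.H X S.X₃ q, IsOfFinAddOrder a)
    (c : EtCoh.H X S.X₂ q) : IsOfFinAddOrder c := by
  let P : Ext (EtCoh.const X ℤ) S.X₂ q →+ Ext (EtCoh.const X ℤ) S.X₃ q := (Ext.mk₀ S.g).postcomp _ (add_zero q)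
  obtain ⟨n, hn, hn0⟩ := isOfFinAddOrder_iff_nsmul_eq_zero.1 (h₃ (P c))
  obtain ⟨a, ha⟩ := Ext.covariant_sequence_exact₂ (EtCoh.const X ℤ) hS (n • c : Ext (EtCoh.const X ℤ) S.X₂ q)
    ((map_nsmul P n c).trans hn0)
  obtain ⟨m, hm, hm0⟩ := isOfFinAddOrder_iff_nsmul_eq_zero.1 (h₁ a)
  refine isOfFinAddOrder_iff_nsmul_eq_zero.2 ⟨m * n, Nat.mul_pos hm hn, ?_⟩
  rw [mul_nsmul']
  show m • (n • c : Ext (EtCoh.const X ℤ) S.X₂ q) = 0
  rw [← ha]
  show m • ((Ext.mk₀ S.f).postcomp _ (add_zero q)) a = 0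
  rw [← map_nsmul, hm0, map_zero]

variable [IsNoetherian X]

/-- sheaves supported on finitely many closed points -/
theorem isOfFinAddOrder_H_of_finite_supp (q : ℕ) (S : Finset X) (hS : ∀ x ∈ S, IsClosed ({x} : Set X)) :
    ∀ G : EtCoh.Ab X, (∀ x, x ∉ S → ZeroAt G x) → ∀ c : EtCoh.H X G (q + 1), IsOfFinAddOrder c := by
  classical
  induction S using Finset.induction with
  | empty =>
    intro G hG c
    haveI := subsingleton_H_of_isZero (isZero_of_zeroAt G fun x => hG x (Finset.notMem_empty x)) (q + 1)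
    exact isOfFinAddOrder_iff_nsmul_eq_zero.2 ⟨1, one_pos, Subsingleton.elim _ _⟩
  | @insert x S hxS ih =>
    intro G hG c
    let i : Spec (X.residueField x) ⟶ X := X.fromSpecResidueField x
    haveI : IsClosedImmersion i := (isClosed_singleton_iff_isClosedImmersion).1 (hS x (Finset.mem_insert_self x S))
    haveI := Groth.Agent.EtPullExact.pull_preservesFiniteLimits i
    let u := (EtCoh.pullPushAdj i).unit.app G
    have hrange : ∀ y, i y = x := fun y => Scheme.fromSpecResidueField_apply x y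
    have hx : ∀ y, y ≠ x → ZeroAt ((EtCoh.push i).obj ((EtCoh.pull i).obj G)) y := by
      intro y hy V s v hv
      refine (EtSect.mem_iff _ s v).2 ?_
      haveI : Etale V.hom := V.prop
      let W₀ : V.left.Opens := ⟨V.hom ⁻¹' {x}ᶜ,
        ((hS x (Finset.mem_insert_self x S)).isOpen_compl).preimage V.hom.continuous⟩
      let W : X.Etale := MorphismProperty.Over.mk ⊤ (W₀.ι ≫ V.hom) (inferInstance : Etale (W₀.ι ≫ V.hom))
      let g : W ⟶ V := MorphismProperty.Over.homMk W₀.ι rfl
      refine ⟨W, g, ⟨⟨v, fun h => hy (hv.symm.trans h)⟩, rfl⟩, ?_⟩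
      refine EtFLC.sect_ext ((EtCoh.pull i).obj G) (V := (EtCoh.bc i).obj W) fun z => ?_
      exfalso
      let w : W₀ := pullback.fst W.hom i z
      have hc := congrArg (fun m : pullback W.hom i ⟶ X => m z) (pullback.condition (f := W.hom) (g := i))
      exact w.2 (hc.trans (hrange _))
    have hbij : ∀ y, y = x → ∃ (Ω : Type u) (_ : Field Ω) (_ : IsSepClosed Ω) (ξ : Spec (CommRingCat.of Ω) ⟶ X),
        ξ (default : ↥(Spec (CommRingCat.of Ω))) = y ∧ Function.Bijective ((EtCoh.stalk ξ).map u) := fun y hy =>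
      bijective_stalk_unit_at i (EtPushStalk.liftProp_of_closedImmersion i) G default ((hrange _).trans hy.symm)
    haveI : Epi u := by
      refine Preadditive.epi_of_isZero_cokernel u (isZero_of_zeroAt _ fun y => ?_)
      by_cases hy : y = x
      · obtain ⟨Ω, _, _, ξ, hξ, hb⟩ := hbij y hy
        exact zeroAt_cokernel hξ u hb.2
      · exact zeroAt_of_epi (cokernel.π u) (hx y hy)
    have hS' : (ShortComplex.mk (kernel.ι u) u (kernel.condition u)).ShortExact :=
      { exact := ShortComplex.exact_of_f_is_kernel _ (kernelIsKernel u) }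
    refine isOfFinAddOrder_middle hS' (q + 1)
      (ih (fun y hy => hS y (Finset.mem_insert_of_mem hy)) _ fun y hy => ?_)
      (isOfFinAddOrder_H_push (k := X.residueField x) i q _) c
    by_cases hyx : y = x
    · obtain ⟨Ω, _, _, ξ, hξ, hb⟩ := hbij y hyx
      exact zeroAt_kernel hξ u hb.1
    · exact zeroAt_of_mono (kernel.ι u) (hG y (by simp [hyx, hy]))

/-- **skyscraper sheaves have torsion cohomology** -/
theorem isOfFinAddOrder_H_of_suppClosed (G : EtCoh.Ab X) (hG : SuppClosed G) (q : ℕ)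
    (c : EtCoh.H X G (q + 1)) : IsOfFinAddOrder c := by
  obtain ⟨hc⟩ := nonempty_isColimit_suppCocone G hG
  haveI := EtColimH.preservesColimitsOfShape_HF (X := X) (q + 1) (Supps X)
  obtain ⟨a, ca, rfl⟩ := Concrete.isColimit_exists_rep _ (isColimitOfPreserves (EtCoh.HF X (q + 1)) hc) c
  exact AddMonoidHom.isOfFinAddOrder
    (((EtCoh.HF X (q + 1)).mapCocone (suppCocone G)).ι.app a).hom
    (isOfFinAddOrder_H_of_finite_supp q a.down.1 a.down.2 _ (fun x hx => zeroAt_suppKernel G a x hx) ca)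

/-- **units on reduced schemes of dimension at most one** -/
theorem isOfFinAddOrder_H_Gm [IsReduced X] (hdim : topologicalKrullDim X ≤ 1) (q : ℕ)
    (c : EtCoh.H X (EtCoh.Gm X) (q + 2)) : IsOfFinAddOrder c := by
  classical
  let T : Type u := {x : X // IsMaxPt x ∧ ¬ IsClosed ({x} : Set X)}
  haveI : Finite T := ((finite_isMaxPt X).subset (fun x hx => hx.1)).to_subtype
  obtain ⟨m, ⟨e⟩⟩ := Finite.exists_equiv_fin T
  let J : Type := Fin m
  let pt : J → X := fun j => (e.symm j).1
  have hpt : ∀ j, IsMaxPt (pt j) := fun j => (e.symm j).2.1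
  let P : J → EtCoh.Ab X := fun j => (EtCoh.push (locι (pt j))).obj (EtCoh.Gm (locScheme (pt j)))
  let u : EtCoh.Gm X ⟶ ⨁ P := biproduct.lift fun j => gmUnit (pt j)
  have hK : SuppClosed (kernel u) := fun z hz => by
    obtain ⟨j, rfl⟩ : ∃ j, pt j = z :=
      ⟨e ⟨z, isMaxPt_of_not_closed hdim hz, hz⟩, congrArg Subtype.val (e.symm_apply_apply _)⟩
    have w : kernel.ι u ≫ gmUnit (pt j) = 0 := by
      rw [← (biproduct.lift_π (fun j => gmUnit (pt j)) j : u ≫ biproduct.π P j = gmUnit (pt j)),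
        kernel.condition_assoc, zero_comp]
    haveI : Mono (kernel.lift (gmUnit (pt j)) (kernel.ι u) w) :=
      mono_of_mono_fac (kernel.lift_ι (gmUnit (pt j)) (kernel.ι u) w)
    exact zeroAt_of_mono (kernel.lift (gmUnit (pt j)) (kernel.ι u) w) (zeroAt_kernel_gmUnit (hpt j))
  have hC : SuppClosed (cokernel u) := fun z hz => by
    obtain ⟨j, rfl⟩ : ∃ j, pt j = z :=
      ⟨e ⟨z, isMaxPt_of_not_closed hdim hz, hz⟩, congrArg Subtype.val (e.symm_apply_apply _)⟩
    obtain ⟨Ω, _, _, ξ, hξ⟩ := exists_geomPt (pt j)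
    haveI : (EtCoh.stalk ξ).Additive := Functor.additive_of_preserves_binary_products _
    refine (isZero_stalk_iff_zeroAt hξ _).1 (isZero_obj_cokernel (EtCoh.stalk ξ) P u j
      (fun x hx => (isZero_stalk_iff_zeroAt hξ _).2 (zeroAt_push (hpt x) _ (pt j) (hpt j)
        fun h => hx (e.symm.injective (Subtype.ext h.symm)))) ?_)
    rw [(biproduct.lift_π (fun j => gmUnit (pt j)) j : u ≫ biproduct.π P j = gmUnit (pt j))]
    exact Preadditive.epi_of_isZero_cokernel _
      (((isZero_stalk_iff_zeroAt hξ _).2 (zeroAt_cokernel_gmUnit (hpt j))).of_iso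
        (PreservesCokernel.iso (EtCoh.stalk ξ) (gmUnit (pt j))).symm)
  let p : EtCoh.Gm X ⟶ cokernel (kernel.ι u) := cokernel.π (kernel.ι u)
  let v : cokernel (kernel.ι u) ⟶ ⨁ P := cokernel.desc _ u (kernel.condition u)
  have hpv : p ≫ v = u := cokernel.π_desc _ _ _
  haveI : Mono v := (ShortComplex.exact_iff_mono_cokernel_desc
    (ShortComplex.mk (kernel.ι u) u (kernel.condition u))).1
    (ShortComplex.exact_of_f_is_kernel _ (kernelIsKernel u))
  have hA : (ShortComplex.mk (kernel.ι u) p (cokernel.condition _)).ShortExact :=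
    { exact := ShortComplex.exact_of_g_is_cokernel _ (cokernelIsCokernel _) }
  have hB : (ShortComplex.mk v (cokernel.π v) (cokernel.condition v)).ShortExact :=
    { exact := ShortComplex.exact_of_g_is_cokernel _ (cokernelIsCokernel _) }
  have hCv : SuppClosed (cokernel v) := fun z hz => by
    have hw : u ≫ cokernel.π v = 0 := (congrArg (· ≫ cokernel.π v) hpv.symm).trans
      ((Category.assoc _ _ _).trans ((congrArg (p ≫ ·) (cokernel.condition v)).trans comp_zero))
    haveI : Epi (cokernel.desc u (cokernel.π v) hw) :=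
      epi_of_epi_fac (cokernel.π_desc u (cokernel.π v) hw)
    exact zeroAt_of_epi (cokernel.desc u (cokernel.π v) hw) (hC z hz)
  have hP : ∀ (j : J) (a : EtCoh.H X (P j) (q + 2)), IsOfFinAddOrder a := fun j a => by
    let R := X.presheaf.stalk (pt j)
    haveI := subsingleton_locScheme (hpt j)
    haveI : IsReduced (locScheme (pt j)) := inferInstance
    haveI : Subsingleton (PrimeSpectrum R) := inferInstanceAs (Subsingleton (locScheme (pt j)))
    have hm : IsLocalRing.maximalIdeal R = ⊥ := by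
      refine eq_bot_iff.2 fun b hb => ?_
      have h1 : b ∈ nilradical R := by
        rw [nilradical_eq_sInf, Ideal.mem_sInf]
        intro Q hQ
        rw [show Q = IsLocalRing.maximalIdeal R from congrArg PrimeSpectrum.asIdeal
          (Subsingleton.elim (α := PrimeSpectrum R) ⟨Q, hQ⟩ ⟨_, (IsLocalRing.maximalIdeal.isMaximal R).isPrime⟩)]
        exact hb
      rwa [nilradical_eq_zero R] at h1
    letI : Field R := (Ring.isField_iff_maximal_bot (R := R)).2 (hm ▸ IsLocalRing.maximalIdeal.isMaximal R) |>.toField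
    exact isOfFinAddOrder_H_push (k := R) (locι (pt j)) (q + 1) _ a
  have hsum : ∀ a : EtCoh.H X (⨁ P) (q + 2), IsOfFinAddOrder a := fun a => by
    let φ : (⨁ P ⟶ ⨁ P) →+ EtCoh.H X (⨁ P) (q + 2) :=
      AddMonoidHom.mk' (fun g => Ext.comp a (Ext.mk₀ g) (add_zero (q + 2))) fun g g' => by
        rw [Ext.mk₀_add, Ext.comp_add]
    have ha : a = ∑ j, φ (biproduct.π P j ≫ biproduct.ι P j) :=
      (Ext.comp_mk₀_id a).symm.trans ((congrArg φ (biproduct.total (f := P)).symm).trans (map_sum φ _ _))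
    rw [ha]
    choose n hn hn0 using fun j : J => isOfFinAddOrder_iff_nsmul_eq_zero.1
      (hP j (Ext.comp a (Ext.mk₀ (biproduct.π P j)) (add_zero (q + 2))))
    refine isOfFinAddOrder_iff_nsmul_eq_zero.2 ⟨∏ j, n j, Finset.prod_pos fun j _ => hn j, ?_⟩
    rw [Finset.smul_sum]
    refine Finset.sum_eq_zero fun j _ => ?_
    obtain ⟨d, hd⟩ := Finset.dvd_prod_of_mem n (Finset.mem_univ j)
    show (∏ j, n j) • Ext.comp a (Ext.mk₀ (biproduct.π P j ≫ biproduct.ι P j)) (add_zero (q + 2)) = 0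
    rw [← Ext.mk₀_comp_mk₀, ← Ext.comp_assoc_of_second_deg_zero]
    show (∏ j, n j) • ((Ext.mk₀ (biproduct.ι P j)).postcomp _ (add_zero (q + 2)))
      (Ext.comp a (Ext.mk₀ (biproduct.π P j)) (add_zero (q + 2))) = 0
    rw [← map_nsmul, hd, mul_comm, mul_nsmul', hn0 j, smul_zero, map_zero]
  have hI : ∀ a : EtCoh.H X (cokernel (kernel.ι u)) (q + 2), IsOfFinAddOrder a := fun a => by
    let Pv : Ext (EtCoh.const X ℤ) (cokernel (kernel.ι u)) (q + 2) →+ Ext (EtCoh.const X ℤ) (⨁ P) (q + 2) :=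
      (Ext.mk₀ v).postcomp _ (add_zero (q + 2))
    obtain ⟨n, hn, hn0⟩ := isOfFinAddOrder_iff_nsmul_eq_zero.1 (hsum (Pv a))
    obtain ⟨d, hd⟩ := Ext.covariant_sequence_exact₁ (EtCoh.const X ℤ) hB
      (n • a : Ext (EtCoh.const X ℤ) _ (q + 2)) ((map_nsmul Pv n a).trans hn0) (n₀ := q + 1) rfl
    obtain ⟨r, hr, hr0⟩ := isOfFinAddOrder_iff_nsmul_eq_zero.1 (isOfFinAddOrder_H_of_suppClosed _ hCv q d)
    refine isOfFinAddOrder_iff_nsmul_eq_zero.2 ⟨r * n, Nat.mul_pos hr hn, ?_⟩
    rw [mul_nsmul']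
    show r • (n • a : Ext (EtCoh.const X ℤ) _ (q + 2)) = 0
    rw [← hd]
    show r • (hB.extClass.postcomp _ rfl) d = 0
    rw [← map_nsmul, hr0, map_zero]
  exact isOfFinAddOrder_middle hA (q + 2) (isOfFinAddOrder_H_of_suppClosed _ hK (q + 1)) hI c

end Groth.Agent.EtTorsPoint
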